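import Groth.Prelude.Def_Conn
import Mathlib

/-!
The `p`-th power of a multiple of an operator satisfying the Leibniz rule, in characteristic `p`.
-/

open Polynomial TensorProduct

namespace Groth.Agent.PCurvLib

universe u v w

variable {A : Type v} {B : Type u} [CommRing A] [CommRing B] [Algebra A B]

/-- `D` satisfies the Leibniz rule over the derivation `θ`. -/
def IsLeib (θ : Derivation A B B) {M : Type w} [AddCommGroup M] [Module B M] [Module A M]
    (D : M →ₗ[A] M) : Prop :=
  ∀ (b : B) (m : M), D (b • m) = θ b • m + b • D m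

section Leib

variable {M : Type w} [AddCommGroup M] [Module B M] [Module A M] [IsScalarTower A B M]
  {θ : Derivation A B B} {D : M →ₗ[A] M}

theorem IsLeib.pow_char (hD : IsLeib θ D) (p : ℕ) [Fact p.Prime] [CharP B p] (b : B) (m : M) :
    (D ^ p) (b • m) = (⇑θ)^[p] b • m + b • (D ^ p) m := by
  let μ : B ⊗[A] M →ₗ[A] M :=
    TensorProduct.lift (LinearMap.mk₂ A (fun (b : B) (m : M) => b • m) (fun a b m => add_smul a b m)
      (fun c a m => smul_assoc c a m) (fun a m n => smul_add a m n)
      (fun c a m => smul_comm a c m))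
  have hμ : ∀ b m, μ (b ⊗ₜ[A] m) = b • m := fun b m => rfl
  set a : Module.End A (B ⊗[A] M) := TensorProduct.map (θ : B →ₗ[A] B) LinearMap.id with ha
  set c : Module.End A (B ⊗[A] M) := TensorProduct.map LinearMap.id D with hc
  have hpow : ∀ (n : ℕ) (x : B) (y : M), (a ^ n) (x ⊗ₜ y) = ((⇑θ)^[n] x) ⊗ₜ y ∧
      (c ^ n) (x ⊗ₜ y) = x ⊗ₜ (D ^ n) y := by
    intro n
    induction n with
    | zero => intro x y; exact ⟨rfl, rfl⟩
    | succ n ih =>
      intro x y
      rw [pow_succ', pow_succ', pow_succ', Function.iterate_succ_apply', Module.End.mul_apply,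
        Module.End.mul_apply, Module.End.mul_apply, (ih x y).1, (ih x y).2]
      exact ⟨rfl, rfl⟩
  have hcomm : Commute a c := by
    refine TensorProduct.ext' fun x y => ?_
    rfl
  have hsum : ∀ z, D (μ z) = μ ((a + c) z) := by
    intro z
    induction z using TensorProduct.induction_on with
    | zero => simp
    | tmul x y => simp only [hμ, hD x y, LinearMap.add_apply, map_add, ha, hc,
        TensorProduct.map_tmul, LinearMap.id_apply, Derivation.coeFn_coe]
    | add z w hz hw => simp only [map_add, hz, hw]
  have hsumn : ∀ (n : ℕ) z, (D ^ n) (μ z) = μ (((a + c) ^ n) z) := by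
    intro n
    induction n with
    | zero => intro z; rfl
    | succ n ih =>
      intro z
      rw [pow_succ', pow_succ', Module.End.mul_apply, Module.End.mul_apply, ih, hsum]
  obtain ⟨r, hr⟩ := hcomm.exists_add_pow_prime_eq (Fact.out : p.Prime)
  have hp0 : ((p : ℕ) : Module.End A (B ⊗[A] M)) = 0 := by
    refine TensorProduct.ext' fun x y => ?_
    rw [Module.End.natCast_apply, TensorProduct.smul_tmul', LinearMap.zero_apply, nsmul_eq_mul,
      CharP.cast_eq_zero B p, zero_mul, TensorProduct.zero_tmul]
  rw [← hμ b m, hsumn, hr, hp0]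
  simp only [zero_mul, add_zero, LinearMap.add_apply, map_add, (hpow p b m).1, (hpow p b m).2, hμ]

theorem IsLeib.smul (hD : IsLeib θ D) (f : B) : IsLeib (f • θ) (f • D) := by
  intro b m
  simp only [LinearMap.smul_apply, Derivation.smul_apply, hD b m, smul_add, smul_eq_mul, smul_smul]
  rw [mul_comm f b]

end Leib

/-- The `p`-fold iterate of a derivation in characteristic `p`. -/
noncomputable def iterPow (p : ℕ) [Fact p.Prime] [CharP B p] (θ : Derivation A B B) :
    Derivation A B B :=
  Derivation.mk' ((θ : B →ₗ[A] B) ^ p) fun x y => by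
    have h : IsLeib θ (θ : B →ₗ[A] B) := fun b m => by
      simp only [Derivation.coeFn_coe, smul_eq_mul, θ.leibniz]
      ring
    have := h.pow_char p x y
    simp only [smul_eq_mul, Module.End.pow_apply, Derivation.coeFn_coe] at this ⊢
    rw [this]
    ring

theorem isIterPow_iterPow (p : ℕ) [Fact p.Prime] [CharP B p] (θ : Derivation A B B) :
    Conn.IsIterPow θ p (iterPow p θ) := fun b => by
  simp [iterPow, Module.End.pow_apply]

section Formal

variable (θ : Derivation A B B)

/-- The universal operator on skew polynomials: coefficientwise `θ`, plus multiplication by `X`. -/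
noncomputable def skew : B[X] →ₗ[A] B[X] where
  toFun P := P.sum fun k a => monomial k (θ a) + monomial (k + 1) a
  map_add' P Q := by
    refine Polynomial.sum_add_index P Q _ (fun k => by simp) (fun k a b => ?_)
    simp only [map_add]
    abel
  map_smul' r P := by
    rw [RingHom.id_apply, Polynomial.sum_smul_index' P r _ (fun k => by simp)]
    rw [Polynomial.sum_def, Polynomial.sum_def, Finset.smul_sum]
    refine Finset.sum_congr rfl fun k _ => ?_
    rw [smul_add, Polynomial.smul_monomial, Polynomial.smul_monomial, Derivation.map_smul]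

theorem skew_monomial (k : ℕ) (a : B) :
    skew θ (monomial k a) = monomial k (θ a) + monomial (k + 1) a := by
  simp only [skew, LinearMap.coe_mk, AddHom.coe_mk]
  exact Polynomial.sum_monomial_index a (fun k a => (monomial k (θ a) + monomial (k + 1) a : B[X])) (by simp)

theorem coeff_skew_zero (P : B[X]) : (skew θ P).coeff 0 = θ (P.coeff 0) := by
  induction P using Polynomial.induction_on' with
  | add P Q hP hQ => simp only [map_add, coeff_add, hP, hQ]
  | monomial k a =>
    rw [skew_monomial]
    by_cases hk : k = 0 <;> simp [hk, coeff_monomial]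

theorem coeff_skew_succ (P : B[X]) (j : ℕ) :
    (skew θ P).coeff (j + 1) = θ (P.coeff (j + 1)) + P.coeff j := by
  induction P using Polynomial.induction_on' with
  | add P Q hP hQ =>
    simp only [map_add, coeff_add, hP, hQ]
    abel
  | monomial k a =>
    rw [skew_monomial]
    simp only [coeff_add, coeff_monomial]
    by_cases h1 : k = j + 1 <;> by_cases h2 : k = j <;> simp [h1, h2]

theorem isLeib_skew : IsLeib θ (skew θ) := by
  intro b P
  induction P using Polynomial.induction_on' with
  | add P Q hP hQ =>
    simp only [smul_add, map_add, hP, hQ]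
    abel
  | monomial k a =>
    simp only [Polynomial.smul_monomial, skew_monomial, smul_add, smul_eq_mul, θ.leibniz, map_add]
    rw [mul_comm a (θ b)]
    abel

theorem skew_pow_one (n : ℕ) : (skew θ ^ n) (1 : B[X]) = monomial n 1 := by
  induction n with
  | zero => simp
  | succ n ih =>
    rw [pow_succ', Module.End.mul_apply, ih, skew_monomial, Derivation.map_one_eq_zero, map_zero,
      zero_add]

variable {M : Type w} [AddCommGroup M] [Module B M] [Module A M] [IsScalarTower A B M]

/-- Evaluation of a skew polynomial at an operator. -/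
noncomputable def ev (D : M →ₗ[A] M) (m : M) : B[X] →+ M where
  toFun P := P.sum fun k a => a • (D ^ k) m
  map_zero' := Polynomial.sum_zero_index _
  map_add' P Q := Polynomial.sum_add_index P Q _ (fun k => zero_smul B _) (fun k a b => add_smul a b _)

theorem ev_monomial (D : M →ₗ[A] M) (m : M) (k : ℕ) (a : B) :
    ev D m (monomial k a) = a • (D ^ k) m :=
  Polynomial.sum_monomial_index a (fun k a => a • (D ^ k) m) (zero_smul B _)

theorem ev_skew_one (P : B[X]) : ev (skew θ) (1 : B[X]) P = P := by
  induction P using Polynomial.induction_on' with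
  | add P Q hP hQ => rw [map_add, hP, hQ]
  | monomial k a => rw [ev_monomial, skew_pow_one, Polynomial.smul_monomial, smul_eq_mul, mul_one]

theorem ev_skew {θ : Derivation A B B} {D : M →ₗ[A] M} (hD : IsLeib θ D) (m : M) (P : B[X]) :
    ev D m (skew θ P) = D (ev D m P) := by
  induction P using Polynomial.induction_on' with
  | add P Q hP hQ => simp only [map_add, hP, hQ]
  | monomial k a =>
    rw [skew_monomial, map_add, ev_monomial, ev_monomial, ev_monomial, hD, pow_succ',
      Module.End.mul_apply]

theorem ev_smul (D : M →ₗ[A] M) (m : M) (f : B) (P : B[X]) :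
    ev D m (f • P) = f • ev D m P := by
  induction P using Polynomial.induction_on' with
  | add P Q hP hQ => simp only [smul_add, map_add, hP, hQ]
  | monomial k a => rw [Polynomial.smul_monomial, ev_monomial, ev_monomial, smul_eq_mul, mul_smul]

/-- The coefficients of the powers of `f • D`. -/
noncomputable def powCoeff (f : B) (n : ℕ) : B[X] := ((f • skew θ) ^ n) 1

theorem pow_smul_apply {θ : Derivation A B B} {D : M →ₗ[A] M} (hD : IsLeib θ D) (f : B) (n : ℕ)
    (m : M) : ((f • D) ^ n) m = ev D m (powCoeff θ f n) := by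
  induction n with
  | zero =>
    show m = ev D m 1
    rw [← Polynomial.monomial_zero_one, ev_monomial, one_smul]
    rfl
  | succ n ih =>
    rw [powCoeff, pow_succ', pow_succ', Module.End.mul_apply, Module.End.mul_apply, ih,
      LinearMap.smul_apply, LinearMap.smul_apply, ev_smul, ev_skew hD]
    rfl

theorem powCoeff_succ (f : B) (n : ℕ) :
    powCoeff θ f (n + 1) = f • skew θ (powCoeff θ f n) := by
  rw [powCoeff, pow_succ', Module.End.mul_apply, LinearMap.smul_apply]
  rfl

theorem powCoeff_shape (f : B) (n : ℕ) :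
    (∀ j, n < j → (powCoeff θ f n).coeff j = 0) ∧ (powCoeff θ f n).coeff n = f ^ n ∧
      (1 ≤ n → (powCoeff θ f n).coeff 0 = 0) := by
  induction n with
  | zero =>
    refine ⟨fun j hj => ?_, ?_, by omega⟩
    · simp [powCoeff, coeff_one]
      omega
    · simp [powCoeff]
  | succ n ih =>
    obtain ⟨h1, h2, h3⟩ := ih
    rw [powCoeff_succ]
    refine ⟨fun j hj => ?_, ?_, fun _ => ?_⟩
    · obtain ⟨i, rfl⟩ : ∃ i, j = i + 1 := ⟨j - 1, by omega⟩
      rw [coeff_smul, coeff_skew_succ, h1 i (by omega), h1 (i + 1) (by omega), map_zero, add_zero,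
        smul_zero]
    · rw [coeff_smul, coeff_skew_succ, h1 (n + 1) (by omega), h2, map_zero, zero_add, smul_eq_mul,
        pow_succ']
    · rw [coeff_smul, coeff_skew_zero]
      rcases Nat.eq_zero_or_pos n with hn | hn
      · subst hn
        simp [powCoeff]
      · rw [h3 hn, map_zero, smul_zero]

theorem coeff_skew_pow (b : B) (k : ℕ) :
    (∀ j, k < j → ((skew θ ^ k) (b • (1 : B[X]))).coeff j = 0) ∧
      ((skew θ ^ k) (b • (1 : B[X]))).coeff k = b ∧
      (∀ i, k = i + 1 → ((skew θ ^ k) (b • (1 : B[X]))).coeff i = k • θ b) := by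
  induction k with
  | zero =>
    refine ⟨fun j hj => ?_, ?_, by omega⟩
    · simp [coeff_one]
      omega
    · simp
  | succ k ih =>
    obtain ⟨h1, h2, h3⟩ := ih
    rw [pow_succ', Module.End.mul_apply]
    refine ⟨fun j hj => ?_, ?_, fun i hi => ?_⟩
    · obtain ⟨l, rfl⟩ : ∃ l, j = l + 1 := ⟨j - 1, by omega⟩
      rw [coeff_skew_succ, h1 l (by omega), h1 (l + 1) (by omega), map_zero, add_zero]
    · rw [coeff_skew_succ, h1 (k + 1) (by omega), h2, map_zero, zero_add]
    · obtain rfl : i = k := by omega
      rcases Nat.eq_zero_or_pos i with hi0 | hi0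
      · subst hi0
        rw [coeff_skew_zero, h2, zero_add, one_smul]
      · obtain ⟨l, rfl⟩ : ∃ l, i = l + 1 := ⟨i - 1, by omega⟩
        rw [coeff_skew_succ, h2, h3 l rfl, succ_nsmul' (θ b) (l + 1)]

/-- A skew polynomial of degree less than `p` which commutes with all scalars is constant. -/
theorem coeff_eq_zero_of_central (p : ℕ) [Fact p.Prime] [CharP B p]
    (hθ : Ideal.span (Set.range θ) = ⊤) (S : B[X]) (hdeg : ∀ j, p ≤ j → S.coeff j = 0)
    (hS : ∀ b : B, ev (skew θ) (b • (1 : B[X])) S = b • S) (n : ℕ) (hn : 1 ≤ n) :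
    S.coeff n = 0 := by
  suffices H : ∀ d n, p ≤ n + d → 1 ≤ n → S.coeff n = 0 from H p n (by omega) hn
  intro d
  induction d with
  | zero => intro n h _; exact hdeg n (by omega)
  | succ d ih =>
    intro n hnp hn1
    by_cases hp : p ≤ n
    · exact hdeg n hp
    have hgt : ∀ j, n < j → S.coeff j = 0 := fun j hj => ih j (by omega) (by omega)
    obtain ⟨i, rfl⟩ : ∃ i, n = i + 1 := ⟨n - 1, by omega⟩
    have key : ∀ b, θ b * (((i + 1 : ℕ) : B) * S.coeff (i + 1)) = 0 := by
      intro b
      have h := congrArg (fun P : B[X] => P.coeff i) (hS b)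
      simp only [ev, AddMonoidHom.coe_mk, ZeroHom.coe_mk] at h
      rw [Polynomial.sum_over_range' (p := S)
        (f := fun k a => a • (skew θ ^ k) (b • (1 : B[X]))) (fun k => zero_smul B _) (i + 2) (by
        rw [Nat.lt_succ_iff]
        refine Polynomial.natDegree_le_iff_coeff_eq_zero.mpr fun N hN => hgt N (by omega)),
        Finset.sum_range_succ, Finset.sum_range_succ, coeff_add, coeff_add, coeff_smul, coeff_smul,
        coeff_smul, (coeff_skew_pow θ b i).2.1, (coeff_skew_pow θ b (i + 1)).2.2 i rfl,
        finset_sum_coeff, Finset.sum_eq_zero (fun j hj => by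
          rw [coeff_smul, (coeff_skew_pow θ b j).1 i (Finset.mem_range.mp hj), smul_zero]),
        zero_add, nsmul_eq_mul, smul_eq_mul, smul_eq_mul, smul_eq_mul] at h
      linear_combination h
    have h2 : ((i + 1 : ℕ) : B) * S.coeff (i + 1) = 0 := by
      have hle : Ideal.span (Set.range θ) ≤
          LinearMap.ker (LinearMap.toSpanSingleton B B (((i + 1 : ℕ) : B) * S.coeff (i + 1))) :=
        Ideal.span_le.mpr (by rintro _ ⟨b, rfl⟩; exact key b)
      rw [hθ] at hle
      have h1 := hle (Submodule.mem_top (x := (1 : B)))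
      rwa [LinearMap.mem_ker, LinearMap.toSpanSingleton_apply, one_smul] at h1
    refine (IsUnit.mul_right_eq_zero ?_).mp h2
    have hc : Nat.Coprime (i + 1) p :=
      ((Nat.Prime.coprime_iff_not_dvd (Fact.out : p.Prime)).mpr
        fun hd => absurd (Nat.le_of_dvd (by omega) hd) hp).symm
    exact (CharP.isUnit_natCast_iff (R := B) (Fact.out : p.Prime)).mpr
      fun hd => absurd (Nat.le_of_dvd (by omega) hd) hp

/-- Hochschild's formula, with the lower coefficient determined by the base derivations. -/
theorem pow_smul_eq {θ : Derivation A B B} (p : ℕ) [Fact p.Prime] [CharP B p]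
    (hθ : Ideal.span (Set.range θ) = ⊤) {D : M →ₗ[A] M} (hD : IsLeib θ D) (f g h : B)
    (hg : ∀ b, (⇑θ)^[p] b = g * θ b) (hh : ∀ b, (⇑(f • θ))^[p] b = h * θ b) (m : M) :
    ((f • D) ^ p) m = f ^ p • (D ^ p) m + (h - f ^ p * g) • D m := by
  have hp1 : 1 < p := (Fact.out : p.Prime).one_lt
  set S : B[X] := powCoeff θ f p - monomial p (f ^ p) - monomial 1 (h - f ^ p * g) with hSdef
  have hev : ∀ {N : Type u} [AddCommGroup N] [Module B N] [Module A N] [IsScalarTower A B N]
      {E : N →ₗ[A] N}, IsLeib θ E → ∀ x, ev E x S =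
        ((f • E) ^ p) x - f ^ p • (E ^ p) x - (h - f ^ p * g) • E x := by
    intro N _ _ _ _ E hE x
    rw [hSdef, map_sub, map_sub, ev_monomial, ev_monomial, ← pow_smul_apply hE, pow_one]
  have hdeg : ∀ j, p ≤ j → S.coeff j = 0 := by
    intro j hj
    rw [hSdef, coeff_sub, coeff_sub, coeff_monomial, coeff_monomial, if_neg (by omega : 1 ≠ j)]
    rcases hj.eq_or_lt with h' | h'
    · subst h'
      rw [(powCoeff_shape θ f p).2.1, if_pos rfl]
      abel
    · rw [(powCoeff_shape θ f p).1 j h', if_neg (by omega : p ≠ j)]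
      abel
  have h0 : S.coeff 0 = 0 := by
    rw [hSdef, coeff_sub, coeff_sub, coeff_monomial, coeff_monomial, if_neg (by omega : 1 ≠ 0),
      if_neg (by omega : p ≠ 0), (powCoeff_shape θ f p).2.2 (by omega)]
    abel
  have hcentral : ∀ b : B, ev (skew θ) (b • (1 : B[X])) S = b • S := by
    intro b
    conv_rhs => rw [← ev_skew_one θ S]
    rw [hev (isLeib_skew θ), hev (isLeib_skew θ), (isLeib_skew θ).pow_char p,
      ((isLeib_skew θ).smul f).pow_char p, isLeib_skew θ, hg, hh]
    simp only [smul_add, smul_sub, smul_smul]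
    module
  have hS : S = 0 := Polynomial.ext fun n => by
    rcases Nat.eq_zero_or_pos n with hn | hn
    · rw [hn, h0, coeff_zero]
    · rw [coeff_eq_zero_of_central θ p hθ S hdeg hcentral n hn, coeff_zero]
  have := congrArg (ev D m) hS
  rw [hSdef, map_sub, map_sub, ev_monomial, ev_monomial, ← pow_smul_apply hD, map_zero, pow_one,
    sub_sub, sub_eq_zero] at this
  exact this

end Formal

end Groth.Agent.PCurvLib
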